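import Groth.Agent.Lib.FlatClosure.Basic
import Groth.Agent.Lib.FlatBC.Push
import Groth.Agent.Lib.WeakAss.Basic
import Groth.Agent.Lib.QCoh.StalkPullback
import Groth.Agent.Lib.QCoh.SupportExact
import Groth.Agent.Lib.FittSheaf.Pullback
import Groth.Agent.Lib.OX.PullbackFlat
import Groth.Prelude.Def_FlatMod2
import Mathlib.RingTheory.Flat.TorsionFree
import Mathlib.CategoryTheory.Adjunction.FullyFaithful

/-!
# Flat quotients with prescribed generic fibre
-/

set_option autoImplicit false
set_option backward.isDefEq.respectTransparency false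
set_option linter.style.haveILetI false

universe u

open CategoryTheory CategoryTheory.Limits AlgebraicGeometry

namespace GrothLib.FlatQuot29

variable {X Y : Scheme.{u}}

/-- The counit of a flat qcqs monomorphism is an isomorphism on quasi-coherent modules. -/
theorem isIso_counit_of_mono {P : Scheme.{u}} (i : P ⟶ X) [Mono i] [QuasiCompact i] [QuasiSeparated i] [Flat i]
    (G : P.Modules) [G.IsQuasicoherent] :
    IsIso ((Scheme.Modules.pullbackPushforwardAdjunction i).counit.app G) := by
  have h : IsPullback (𝟙 P) (𝟙 P) i i := IsPullback.of_horiz_isIso_mono ⟨rfl⟩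
  have hiso := FlatBC.isIso_bcMap h G
  let adj := Scheme.Modules.pullbackPushforwardAdjunction (𝟙 P)
  haveI : (Scheme.Modules.pullback (𝟙 P)).Full := Functor.Full.of_iso (Scheme.Modules.pullbackId P).symm
  haveI : (Scheme.Modules.pullback (𝟙 P)).Faithful :=
    Functor.Faithful.of_iso (Scheme.Modules.pullbackId P).symm
  haveI : IsIso adj.unit := adj.unit_isIso_of_L_fully_faithful
  haveI : IsIso (AffBC.bcV h G) := by
    unfold AffBC.bcV
    infer_instance
  rw [AffBC.bcMap, Adjunction.homEquiv_counit] at hiso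
  haveI := hiso
  have h1 : IsIso ((Scheme.Modules.pullbackPushforwardAdjunction i).counit.app
      ((Scheme.Modules.pushforward (𝟙 P)).obj ((Scheme.Modules.pullback (𝟙 P)).obj G))) :=
    IsIso.of_isIso_comp_left ((Scheme.Modules.pullback i).map (AffBC.bcV h G)) _
  have hn := (Scheme.Modules.pullbackPushforwardAdjunction i).counit.naturality (adj.unit.app G)
  haveI := h1
  have h2 : IsIso ((Scheme.Modules.pullback i).map ((Scheme.Modules.pushforward i).map (adj.unit.app G)) ≫
      (Scheme.Modules.pullbackPushforwardAdjunction i).counit.app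
        ((Scheme.Modules.pullback (𝟙 P) ⋙ Scheme.Modules.pushforward (𝟙 P)).obj G)) :=
    inferInstanceAs (IsIso (_ ≫ (Scheme.Modules.pullbackPushforwardAdjunction i).counit.app
      ((Scheme.Modules.pushforward (𝟙 P)).obj ((Scheme.Modules.pullback (𝟙 P)).obj G))))
  exact @IsIso.of_isIso_comp_right _ _ _ _ _ ((Scheme.Modules.pullbackPushforwardAdjunction i).counit.app G)
    ((𝟭 _).map (adj.unit.app G)) inferInstance (hn ▸ h2)

variable (f : X ⟶ Y)

theorem eq_genericPoint_of_maximalIdeal_eq_bot [IsIntegral Y] (y : Y)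
    (h : IsLocalRing.maximalIdeal (Y.presheaf.stalk y) = ⊥) : y = genericPoint Y := by
  have hη : genericPoint Y ∈ Set.range (Y.fromSpecStalk y) := by
    rw [Scheme.range_fromSpecStalk]
    exact (genericPoint_spec Y).specializes (Set.mem_univ y)
  obtain ⟨p, hp⟩ := hη
  have : p = IsLocalRing.closedPoint (Y.presheaf.stalk y) := by
    apply PrimeSpectrum.ext
    show p.asIdeal = IsLocalRing.maximalIdeal _
    exact le_antisymm (IsLocalRing.le_maximalIdeal p.isPrime.ne_top) (h ▸ bot_le)
  rw [this, Scheme.fromSpecStalk_closedPoint] at hp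
  exact hp

/-- A morphism into a module flat over an integral base that vanishes at the generic fibre is zero. -/
theorem eq_zero_of_generic [IsIntegral Y] {A G : X.Modules} [G.IsQuasicoherent]
    (hG : FlatMod.IsFlatOver f G) (k : A ⟶ G)
    (hk : ∀ x : X, f x = genericPoint Y → QCoh.stalkLin k x = 0) : k = 0 := by
  apply (Scheme.Modules.toPresheaf X).map_injective
  ext U t
  have hs : TopCat.Presheaf.IsSheaf (C := Ab.{u}) (X := X.carrier) G.presheaf := G.isSheaf
  refine TopCat.Presheaf.section_ext ⟨G.presheaf, hs⟩ U _ _ fun x hx => ?_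
  change G.presheaf.germ U x hx (k.app U t) = G.presheaf.germ U x hx 0
  rw [map_zero]
  obtain ⟨W, hW, hxW, hWU⟩ := exists_isAffineOpen_mem_and_subset hx
  have hres : k.app W (A.presheaf.map (homOfLE hWU).op t) = 0 := by
    by_contra hne
    obtain ⟨z, hz, ⟨μ, hμ⟩, hgz⟩ := WeakAss.exists_isWeakAssPoint (F := G) hW hne
    refine hgz ?_
    rw [← QCoh.stalkLin_germ k hz]
    by_cases hfz : f z = genericPoint Y
    · rw [hk z hfz, LinearMap.zero_apply]
    exfalso
    obtain ⟨a, ha, ha0⟩ := Submodule.exists_mem_ne_zero_of_ne_bot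
      (fun hb => hfz (eq_genericPoint_of_maximalIdeal_eq_bot _ hb))
    let : Module (Y.presheaf.stalk (f z)) (G.presheaf.stalk z) := FlatMod.moduleStalkOver f G z
    have : Module.Flat (Y.presheaf.stalk (f z)) (G.presheaf.stalk z) := hG z
    have : Module.IsTorsionFree (Y.presheaf.stalk (f z)) (G.presheaf.stalk z) := inferInstance
    have ha' : (f.stalkMap z).hom a ∈ IsLocalRing.maximalIdeal (X.presheaf.stalk z) := map_nonunit _ a ha
    rw [← hμ] at ha'
    obtain ⟨n, hn⟩ := ha'
    rw [LinearMap.mem_ker, LinearMap.toSpanSingleton_apply, ← map_pow] at hn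
    have hμ0 : μ = 0 := (smul_eq_zero.1 (show (a ^ n) • μ = 0 from hn)).resolve_left (pow_ne_zero n ha0)
    have : (1 : X.presheaf.stalk z) ∈ IsLocalRing.maximalIdeal (X.presheaf.stalk z) := by
      rw [← hμ]
      exact Ideal.le_radical (by simp [hμ0])
    exact (IsLocalRing.maximalIdeal.isMaximal _).ne_top ((Ideal.eq_top_iff_one _).2 this)
  calc G.presheaf.germ U x hx (k.app U t)
      = G.presheaf.germ W x hxW (G.presheaf.map (homOfLE hWU).op (k.app U t)) :=
        (TopCat.Presheaf.germ_res_apply G.presheaf (homOfLE hWU) x hxW _).symm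
    _ = G.presheaf.germ W x hxW (k.app W (A.presheaf.map (homOfLE hWU).op t)) := by
        exact congrArg _ (QCoh.map_app k (homOfLE hWU) t)
    _ = 0 := by rw [hres, map_zero]

/-- Stalks of a morphism killed by a flat pullback vanish at the image. -/
theorem stalkLin_eq_zero_of_pullback {P : Scheme.{u}} (i : P ⟶ X) [Flat i] {A G : X.Modules} (k : A ⟶ G)
    (hk : (Scheme.Modules.pullback i).map k = 0) (z : P) : QCoh.stalkLin k (i z) = 0 := by
  let S := P.presheaf.stalk z
  let B := X.presheaf.stalk (i z)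
  let : Algebra B S := (i.stalkMap z).hom.toAlgebra
  have : Module.Flat B S := Flat.stalkMap i z
  have : IsLocalHom (algebraMap B S) := inferInstanceAs (IsLocalHom (i.stalkMap z).hom)
  have : Module.FaithfullyFlat B S := Module.FaithfullyFlat.of_flat_of_isLocalHom
  have h := (QCoh.stalkPullbackIso i z).hom.naturality k
  have : Preadditive (X.Modules) := inferInstance
  have h0 : (Scheme.Modules.pullback i ⋙ OX.stalk z).map k = 0 := by
    show (OX.stalk z).map ((Scheme.Modules.pullback i).map k) = 0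
    rw [hk, Functor.map_zero]
  rw [h0, zero_comp] at h
  have h2 : (OX.stalk (i z) ⋙ ModuleCat.extendScalars (i.stalkMap z).hom).map k = 0 :=
    (cancel_epi ((QCoh.stalkPullbackIso i z).hom.app A)).1 (h.symm.trans comp_zero.symm)
  refine LinearMap.ext fun v => ?_
  have h3 := congrArg (fun φ => (ConcreteCategory.hom φ) ((1 : S) ⊗ₜ[B] v)) h2
  exact (Module.FaithfullyFlat.one_tmul_eq_zero_iff B (G.presheaf.stalk (i z)) (A := S)
    (QCoh.stalkLin k (i z) v)).1 (h3.trans rfl)

/-- Sections on the generic fibre make the direct image torsion free over the base. -/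
theorem smul_stalk_pushforward_eq_zero [IsIntegral Y] {P : Scheme.{u}} (i : P ⟶ X)
    (hi : ∀ z : P, f (i z) = genericPoint Y) (G' : P.Modules) (x : X) (a : Y.presheaf.stalk (f x)) (ha : a ≠ 0)
    (v : ((Scheme.Modules.pushforward i).obj G').presheaf.stalk x) (hv : (f.stalkMap x).hom a • v = 0) : v = 0 := by
  obtain ⟨V, hV, b, rfl⟩ := TopCat.Presheaf.exists_germ_eq Y.presheaf a
  obtain ⟨W, hW, m, rfl⟩ := TopCat.Presheaf.exists_germ_eq ((Scheme.Modules.pushforward i).obj G').presheaf v
  let W₀ := W ⊓ f ⁻¹ᵁ V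
  have hx₀ : x ∈ W₀ := ⟨hW, hV⟩
  rw [← TopCat.Presheaf.germ_res_apply ((Scheme.Modules.pushforward i).obj G').presheaf
    (homOfLE (inf_le_left : W₀ ≤ W)) x hx₀ m] at hv ⊢
  set m₀ := ((Scheme.Modules.pushforward i).obj G').presheaf.map (homOfLE (inf_le_left : W₀ ≤ W)).op m
  let c : Γ(X, W₀) := f.appLE V W₀ inf_le_right b
  have hc : (f.stalkMap x).hom (Y.presheaf.germ V (f x) hV b) = X.presheaf.germ W₀ x hx₀ c := by
    show (f.stalkMap x) (Y.presheaf.germ V (f x) hV b) = _
    rw [Scheme.Hom.germ_stalkMap_apply]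
    exact (TopCat.Presheaf.germ_res_apply X.presheaf (homOfLE inf_le_right) x hx₀ _).symm
  rw [hc, ← WeakAss.germ_smul hx₀] at hv
  have hu : IsUnit (i.app W₀ c) := by
    refine RingedSpace.isUnit_of_isUnit_germ P.toRingedSpace _ _ fun z hz => ?_
    refine (P.mem_basicOpen _ z hz).1 ?_
    rw [← Scheme.preimage_basicOpen i c, Scheme.basicOpen_appLE]
    refine ⟨hz, ?_⟩
    show f (i z) ∈ Y.basicOpen b
    rw [hi z]
    refine ((genericPoint_spec Y).mem_open_set_iff (Y.basicOpen b).isOpen).2 ?_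
    rcases Set.eq_empty_or_nonempty (Y.basicOpen b : Set Y) with he | ⟨w, hw⟩
    · exfalso
      refine ha ?_
      rw [(basicOpen_eq_bot_iff b).1 (TopologicalSpace.Opens.ext he), map_zero]
    · exact ⟨w, trivial, hw⟩
  obtain ⟨W₁, hx₁, iU, iV, e⟩ := TopCat.Presheaf.germ_eq ((Scheme.Modules.pushforward i).obj G').presheaf
    x hx₀ hx₀ (c • m₀) 0 (hv.trans (map_zero _).symm)
  rw [map_zero, Scheme.Modules.map_smul] at e
  have e' : (i.app W₁ (X.presheaf.map iU.op c)) •
      (show Γ(G', i ⁻¹ᵁ W₁) from ((Scheme.Modules.pushforward i).obj G').presheaf.map iU.op m₀) = 0 :=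
    (QCoh.pushforward_smul i G' _ _).symm.trans e
  have hu' : IsUnit (i.app W₁ (X.presheaf.map iU.op c)) := by
    rw [show i.app W₁ (X.presheaf.map iU.op c) = P.presheaf.map ((TopologicalSpace.Opens.map i.base).map iU).op
      (i.app W₀ c) from congr($(i.naturality iU.op) c)]
    exact hu.map _
  have h0 := hu'.smul_eq_zero.1 e'
  rw [← TopCat.Presheaf.germ_res_apply ((Scheme.Modules.pushforward i).obj G').presheaf iU x hx₁ m₀]
  exact (congrArg _ h0).trans (map_zero _)

set_option maxHeartbeats 1000000 in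
/-- Existence and uniqueness of the flat quotient, for a pro-open generic fibre. -/
theorem exists_unique_flatQuot_aux [IsIntegral Y]
    (hY : ∀ y : Y, IsRegularLocalRing (Y.presheaf.stalk y) ∧ ringKrullDim (Y.presheaf.stalk y) ≤ 1)
    {P : Scheme.{u}} (i : P ⟶ X) [Mono i] [QuasiCompact i] [QuasiSeparated i] [Flat i]
    (hi : ∀ z, f (i z) = genericPoint Y) (hgen : ∀ x, f x = genericPoint Y → ∃ z, i z = x)
    (F : X.Modules) [F.IsQuasicoherent] (G' : P.Modules) [G'.IsQuasicoherent]
    (π : (Scheme.Modules.pullback i).obj F ⟶ G') [Epi π] :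
    (∃ (G : X.Modules) (ρ : F ⟶ G) (e : (Scheme.Modules.pullback i).obj G ≅ G'),
        Epi ρ ∧ Coh.IsQCoh G ∧ FlatMod.IsFlatOver f G ∧ (Scheme.Modules.pullback i).map ρ ≫ e.hom = π) ∧
      ∀ (G₁ G₂ : X.Modules) (ρ₁ : F ⟶ G₁) (ρ₂ : F ⟶ G₂)
        (e₁ : (Scheme.Modules.pullback i).obj G₁ ≅ G') (e₂ : (Scheme.Modules.pullback i).obj G₂ ≅ G'),
        Epi ρ₁ → Epi ρ₂ → Coh.IsQCoh G₁ → Coh.IsQCoh G₂ → FlatMod.IsFlatOver f G₁ → FlatMod.IsFlatOver f G₂ →
        (Scheme.Modules.pullback i).map ρ₁ ≫ e₁.hom = π →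
        (Scheme.Modules.pullback i).map ρ₂ ≫ e₂.hom = π →
        ∃ e : G₁ ≅ G₂, ρ₁ ≫ e.hom = ρ₂ := by
  have hzero : ∀ {A G : X.Modules} [G.IsQuasicoherent], FlatMod.IsFlatOver f G → ∀ k : A ⟶ G,
      (Scheme.Modules.pullback i).map k = 0 → k = 0 := fun hG k hk =>
    eq_zero_of_generic f hG k fun x hx => by
      obtain ⟨z, rfl⟩ := hgen x hx
      exact stalkLin_eq_zero_of_pullback i k hk z
  constructor
  · let adj := Scheme.Modules.pullbackPushforwardAdjunction i
    let φ := adj.homEquiv F G' π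
    haveI : ((Scheme.Modules.pushforward i).obj G').IsQuasicoherent := QCoh.isQuasicoherent_pushforward i G'
    haveI := QCoh.isQuasicoherent_image φ
    haveI := isIso_counit_of_mono i G'
    let c := (Scheme.Modules.pullback i).map (Abelian.image.ι φ) ≫ adj.counit.app G'
    have hπ : (Scheme.Modules.pullback i).map (Abelian.factorThruImage φ) ≫ c = π := by
      have h := (adj.homEquiv_counit F G' φ).symm.trans (Equiv.symm_apply_apply _ π)
      rw [← Category.assoc, ← Functor.map_comp, Abelian.image.fac]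
      exact h
    haveI := OX.preservesFiniteLimits_pullback_of_flat i
    haveI : Mono c := mono_comp _ _
    haveI : Epi c := epi_of_epi_fac hπ
    haveI : IsIso c := isIso_of_mono_of_epi c
    refine ⟨Abelian.image φ, Abelian.factorThruImage φ, asIso c, inferInstance, ‹_›, fun x => ?_, hπ⟩
    let R := Y.presheaf.stalk (f x)
    haveI : IsRegularLocalRing R := (hY (f x)).1
    obtain ⟨hd, hv⟩ := FlatClosure.valuationRing_of_regular (hY (f x)).2
    let : Module R ((Abelian.image φ).presheaf.stalk x) := FlatMod.moduleStalkOver f (Abelian.image φ) x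
    show Module.Flat R ((Abelian.image φ).presheaf.stalk x)
    have : Module.IsTorsionFree R ((Abelian.image φ).presheaf.stalk x) :=
      Module.IsTorsionFree.of_smul_eq_zero fun a v hav => by
        by_cases ha : a = 0
        · exact Or.inl ha
        refine Or.inr (QCoh.stalkLin_injective (Abelian.image.ι φ) x ?_)
        rw [map_zero]
        refine smul_stalk_pushforward_eq_zero f i hi G' x a ha _ ?_
        rw [← map_smul]
        exact (congrArg _ hav).trans (map_zero _)
    infer_instance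
  · intro G₁ G₂ ρ₁ ρ₂ e₁ e₂ _ _ hq₁ hq₂ hf₁ hf₂ h₁ h₂
    haveI : G₁.IsQuasicoherent := hq₁
    haveI : G₂.IsQuasicoherent := hq₂
    have hadd := OX.additive_pullback i
    have key : ∀ {A B : X.Modules} [B.IsQuasicoherent] (ρ : F ⟶ A) (ρ' : F ⟶ B)
        (e : (Scheme.Modules.pullback i).obj A ≅ G') (e' : (Scheme.Modules.pullback i).obj B ≅ G'),
        FlatMod.IsFlatOver f B → (Scheme.Modules.pullback i).map ρ ≫ e.hom = π →
        (Scheme.Modules.pullback i).map ρ' ≫ e'.hom = π → kernel.ι ρ ≫ ρ' = 0 := by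
      intro A B _ ρ ρ' e e' hB h h'
      refine hzero hB _ ?_
      have h0 : (Scheme.Modules.pullback i).map (kernel.ι ρ) ≫ (Scheme.Modules.pullback i).map ρ = 0 := by
        rw [← Functor.map_comp, kernel.condition, Functor.map_zero]
      rw [← cancel_mono e'.hom, Functor.map_comp, Category.assoc, h', ← h, reassoc_of% h0,
        zero_comp, zero_comp]
    have k₁ := key ρ₁ ρ₂ e₁ e₂ hf₂ h₁ h₂
    have k₂ := key ρ₂ ρ₁ e₂ e₁ hf₁ h₂ h₁
    refine ⟨⟨Abelian.epiDesc ρ₁ ρ₂ k₁, Abelian.epiDesc ρ₂ ρ₁ k₂, ?_, ?_⟩, Abelian.comp_epiDesc ρ₁ ρ₂ k₁⟩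
    · rw [← cancel_epi ρ₁, ← Category.assoc, Abelian.comp_epiDesc, Abelian.comp_epiDesc, Category.comp_id]
    · rw [← cancel_epi ρ₂, ← Category.assoc, Abelian.comp_epiDesc, Abelian.comp_epiDesc, Category.comp_id]

/-- Existence and uniqueness of the flat quotient with a given generic fibre. -/
theorem exists_unique_flatQuot [IsIntegral Y]
    (hY : ∀ y : Y, IsRegularLocalRing (Y.presheaf.stalk y) ∧ ringKrullDim (Y.presheaf.stalk y) ≤ 1)
    (F : X.Modules) [F.IsQuasicoherent] (G' : (f.fiber (genericPoint Y)).Modules) [G'.IsQuasicoherent]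
    (π : (Scheme.Modules.pullback (f.fiberι (genericPoint Y))).obj F ⟶ G') [Epi π] :
    (∃ (G : X.Modules) (ρ : F ⟶ G) (e : (Scheme.Modules.pullback (f.fiberι (genericPoint Y))).obj G ≅ G'),
        Epi ρ ∧ Coh.IsQCoh G ∧ FlatMod.IsFlatOver f G ∧
          (Scheme.Modules.pullback (f.fiberι (genericPoint Y))).map ρ ≫ e.hom = π) ∧
      ∀ (G₁ G₂ : X.Modules) (ρ₁ : F ⟶ G₁) (ρ₂ : F ⟶ G₂)
        (e₁ : (Scheme.Modules.pullback (f.fiberι (genericPoint Y))).obj G₁ ≅ G')
        (e₂ : (Scheme.Modules.pullback (f.fiberι (genericPoint Y))).obj G₂ ≅ G'),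
        Epi ρ₁ → Epi ρ₂ → Coh.IsQCoh G₁ → Coh.IsQCoh G₂ → FlatMod.IsFlatOver f G₁ → FlatMod.IsFlatOver f G₂ →
        (Scheme.Modules.pullback (f.fiberι (genericPoint Y))).map ρ₁ ≫ e₁.hom = π →
        (Scheme.Modules.pullback (f.fiberι (genericPoint Y))).map ρ₂ ≫ e₂.hom = π →
        ∃ e : G₁ ≅ G₂, ρ₁ ≫ e.hom = ρ₂ := by
  have sq : IsPullback (f.fiberι (genericPoint Y)) (f.fiberToSpecResidueField (genericPoint Y)) f
      (Y.fromSpecResidueField (genericPoint Y)) := IsPullback.of_hasPullback _ _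
  haveI : QuasiCompact (Y.fromSpecResidueField (genericPoint Y)) := FlatClosure.quasiCompact_fromSpecResidueField _
  haveI : QuasiCompact (f.fiberι (genericPoint Y)) := MorphismProperty.of_isPullback sq.flip inferInstance
  haveI : QuasiSeparated (Y.fromSpecResidueField (genericPoint Y)) := inferInstance
  haveI : QuasiSeparated (f.fiberι (genericPoint Y)) := MorphismProperty.of_isPullback sq.flip inferInstance
  haveI : Flat (f.fiberι (genericPoint Y)) := MorphismProperty.of_isPullback sq.flip inferInstance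
  haveI : Mono (f.fiberι (genericPoint Y)) := MorphismProperty.of_isPullback
    (P := MorphismProperty.monomorphisms Scheme) sq.flip (inferInstanceAs (Mono _))
  refine exists_unique_flatQuot_aux f hY (f.fiberι (genericPoint Y)) (fun z => ?_) (fun x hx => ?_) F G' π
  · rw [← Scheme.Hom.comp_apply, sq.w, Scheme.Hom.comp_apply]
    exact Scheme.fromSpecResidueField_apply _ _
  · show x ∈ Set.range (f.fiberι (genericPoint Y))
    rw [f.range_fiberι]
    exact hx

end GrothLib.FlatQuot29
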